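import Groth.Agent.Lib.BijNormal27.Main
import Groth.Agent.Lib.GrpSchField.ReducedProd
import Mathlib.FieldTheory.Perfect
import Mathlib.LinearAlgebra.Dual.Lemmas

/-!
# Functions constant on fibres descend (characteristic zero)
-/

set_option autoImplicit false
set_option maxHeartbeats 600000
universe u

open CategoryTheory CategoryTheory.Limits AlgebraicGeometry TensorProduct

namespace GrothLib.RatDesc5

theorem exists_eq_of_tmul_eq {F K : Type u} [Field F] [Field K] [Algebra F K] (x : K)
    (h : x ⊗ₜ[F] (1 : K) = (1 : K) ⊗ₜ[F] x) : ∃ c : F, algebraMap F K c = x := by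
  by_contra hx
  have hnot : x ∉ (Submodule.span F {(1 : K)}) := fun hm => by
    obtain ⟨c, hc⟩ := Submodule.mem_span_singleton.1 hm
    exact hx ⟨c, (Algebra.algebraMap_eq_smul_one c).trans hc⟩
  obtain ⟨l, hl, hl'⟩ := Submodule.exists_dual_map_eq_bot_of_notMem hnot inferInstance
  have h1 : l 1 = 0 := (Submodule.mem_bot F).1 (hl' ▸ ⟨1, Submodule.mem_span_singleton_self 1, rfl⟩)
  have := congrArg (fun t => TensorProduct.lid F K (l.rTensor K t)) h
  simp only [LinearMap.rTensor_tmul, TensorProduct.lid_tmul, h1, zero_smul] at this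
  exact hl ((smul_eq_zero.1 this).resolve_right one_ne_zero)

theorem eq_of_isNilpotent {A B R : Type u} [CommRing A] [CommRing B] [Algebra A B] [CommRing R] [IsReduced R]
    (g₁ g₂ : B →+* R) (hg : ∀ a : A, g₁ (algebraMap A B a) = g₂ (algebraMap A B a)) (b : B)
    (hd : IsNilpotent (b ⊗ₜ[A] (1 : B) - (1 : B) ⊗ₜ[A] b)) : g₁ b = g₂ b := by
  letI : Algebra A R := (g₁.comp (algebraMap A B)).toAlgebra
  let G := Algebra.TensorProduct.lift (R := A) (S := A) ({ g₁ with commutes' := fun _ => rfl } : B →ₐ[A] R)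
    ({ g₂ with commutes' := fun a => (hg a).symm } : B →ₐ[A] R) (fun _ _ => Commute.all _ _)
  have h0 := (hd.map G).eq_zero
  rw [map_sub, Algebra.TensorProduct.lift_tmul, Algebra.TensorProduct.lift_tmul, map_one, map_one, mul_one,
    one_mul, sub_eq_zero] at h0
  exact h0

/-- An element with equal values at any two points over the same point of the base is rational over the base. -/
theorem exists_algebraMap_eq {k A B F K : Type u} [Field k] [IsAlgClosed k] [CommRing A] [CommRing B]
    [Field F] [Field K] [Algebra k A] [Algebra k B] [Algebra A B] [IsScalarTower k A B]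
    [Algebra.FiniteType k B] [Algebra A F] [Algebra F K] [Algebra B K] [Algebra A K] [IsScalarTower A F K]
    [IsScalarTower A B K] [PerfectField F] (b : B)
    (h : ∀ φ₁ φ₂ : B →ₐ[k] k, (∀ a, φ₁ (algebraMap A B a) = φ₂ (algebraMap A B a)) → φ₁ b = φ₂ b) :
    ∃ c : F, algebraMap F K c = algebraMap B K b := by
  refine exists_eq_of_tmul_eq _ ?_
  haveI : Algebra.FiniteType A B := Algebra.FiniteType.of_restrictScalars_finiteType k A B
  haveI : Algebra.FiniteType B (B ⊗[A] B) := inferInstance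
  haveI : Algebra.FiniteType k (B ⊗[A] B) :=
    (‹Algebra.FiniteType k B›).trans ‹Algebra.FiniteType B (B ⊗[A] B)›
  haveI : IsJacobsonRing (B ⊗[A] B) := isJacobsonRing_of_finiteType (A := k)
  let d : B ⊗[A] B := b ⊗ₜ 1 - 1 ⊗ₜ b
  have hd : IsNilpotent d := by
    rw [← mem_nilradical, nilradical, Ideal.radical_eq_jacobson, Ideal.jacobson,
      Submodule.mem_sInf]
    rintro m ⟨-, hm⟩
    have := hm
    letI := Ideal.Quotient.field m
    haveI : Algebra.FiniteType k ((B ⊗[A] B) ⧸ m) :=
      Algebra.FiniteType.of_surjective (Ideal.Quotient.mkₐ k m) (Ideal.Quotient.mkₐ_surjective k m)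
    haveI : Module.Finite k ((B ⊗[A] B) ⧸ m) := finite_of_finite_type_of_isJacobsonRing k _
    let e : k ≃ₐ[k] (B ⊗[A] B) ⧸ m :=
      AlgEquiv.ofBijective (Algebra.ofId k _) (IsAlgClosed.algebraMap_bijective_of_isIntegral (k := k))
    let ψ : B ⊗[A] B →ₐ[k] k := e.symm.toAlgHom.comp (Ideal.Quotient.mkₐ k m)
    let φ₁ : B →ₐ[k] k := ψ.comp ((Algebra.TensorProduct.includeLeft : B →ₐ[A] B ⊗[A] B).restrictScalars k)
    let φ₂ : B →ₐ[k] k := ψ.comp ((Algebra.TensorProduct.includeRight : B →ₐ[A] B ⊗[A] B).restrictScalars k)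
    have hφ : φ₁ b = φ₂ b := h φ₁ φ₂ fun a => congrArg ψ
      (((Algebra.TensorProduct.includeLeft : B →ₐ[A] B ⊗[A] B).commutes a).trans
        ((Algebra.TensorProduct.includeRight : B →ₐ[A] B ⊗[A] B).commutes a).symm)
    have h0 : ψ d = 0 := (map_sub ψ _ _).trans (sub_eq_zero.2 hφ)
    exact Ideal.Quotient.eq_zero_iff_mem.1 ((map_eq_zero_iff _ e.symm.injective).1 h0)
  haveI : Algebra.IsGeometricallyReduced F K := GrpSchField.isGeometricallyReduced_of_isReduced
  haveI : IsReduced (K ⊗[F] K) := GrpSchField.isReduced_tensorProduct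
  let g₁ : B →+* K ⊗[F] K := Algebra.TensorProduct.includeLeftRingHom.comp (algebraMap B K)
  let g₂ : B →+* K ⊗[F] K :=
    (Algebra.TensorProduct.includeRight : K →ₐ[F] K ⊗[F] K).toRingHom.comp (algebraMap B K)
  have hg : ∀ a : A, g₂ (algebraMap A B a) = g₁ (algebraMap A B a) := fun a => by
    show (1 : K) ⊗ₜ[F] algebraMap B K (algebraMap A B a) = algebraMap B K (algebraMap A B a) ⊗ₜ[F] (1 : K)
    rw [← IsScalarTower.algebraMap_apply, IsScalarTower.algebraMap_apply A F K,
      Algebra.algebraMap_eq_smul_one (R := F) (A := K), TensorProduct.smul_tmul]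
  exact eq_of_isNilpotent g₁ g₂ (fun a => (hg a).symm) b hd

/-- On a variety in characteristic zero, a function constant on the fibres of a surjection onto a normal
variety comes from the base. -/
theorem exists_appTop_eq {k : Type u} [Field k] [IsAlgClosed k] [CharZero k]
    {X Y : Over (Spec (CommRingCat.of k))}
    [IsIntegral X.left] [IsIntegral Y.left] [LocallyOfFiniteType X.hom] [LocallyOfFiniteType Y.hom]
    (hY : ∀ y : Y.left, IsIntegrallyClosed (Y.left.presheaf.stalk y))
    (f : X ⟶ Y) (hf : Function.Surjective f.left.base) (s : Γ(X.left, ⊤))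
    (hs : ∀ x₁ x₂ : Spec (CommRingCat.of k) ⟶ X.left,
      x₁ ≫ X.hom = 𝟙 _ → x₂ ≫ X.hom = 𝟙 _ → x₁ ≫ f.left = x₂ ≫ f.left →
        x₁.appTop.hom s = x₂.appTop.hom s) :
    ∃ r : Γ(Y.left, ⊤), f.left.appTop.hom r = s := by
  haveI : IsLocallyNoetherian Y.left := LocallyOfFiniteType.isLocallyNoetherian Y.hom
  have e : f.left (genericPoint X.left) = genericPoint Y.left := by
    refine ((genericPoint_spec X.left).image f.left.continuous).eq ?_
    rw [Set.image_univ, hf.range_eq, closure_univ]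
    exact genericPoint_spec Y.left
  suffices hc : ∃ c, BijNormal27.ffMap f.left e c = X.left.presheaf.germ ⊤ (genericPoint X.left) trivial s by
    obtain ⟨c, hc⟩ := hc
    exact BijNormal27.exists_global f.left hY hf e c s hc
  obtain ⟨_, ⟨V, hV, rfl⟩, hηV, -⟩ :=
    Y.left.isBasis_affineOpens.exists_subset_of_mem_open (Set.mem_univ (genericPoint Y.left)) isOpen_univ
  obtain ⟨_, ⟨U, hU, rfl⟩, hηU, hUV⟩ :=
    X.left.isBasis_affineOpens.exists_subset_of_mem_open
      (show f.left (genericPoint X.left) ∈ V from e.symm ▸ hηV) (f.left ⁻¹ᵁ V).2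
  let σY : CommRingCat.of k ⟶ Γ(Y.left, V) := (Scheme.ΓSpecIso _).inv ≫ Y.hom.appLE ⊤ V le_top
  let σX : CommRingCat.of k ⟶ Γ(X.left, U) := (Scheme.ΓSpecIso _).inv ≫ X.hom.appLE ⊤ U le_top
  let τ : Γ(Y.left, V) ⟶ Γ(X.left, U) := f.left.appLE V U hUV
  have hστ : σY ≫ τ = σX := by
    simp only [σY, σX, τ, Category.assoc, Scheme.Hom.appLE_comp_appLE, Over.w]
  let γY := Y.left.presheaf.germ V (genericPoint Y.left) hηV
  let γX := X.left.presheaf.germ U (genericPoint X.left) hηU
  let ω := BijNormal27.ffMap f.left e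
  have hsq : ∀ a, ω (γY a) = γX (τ a) := fun a => by
    refine (BijNormal27.ffMap_germ f.left e V hηV a).trans ?_
    show _ = (f.left.app V ≫ X.left.presheaf.map (homOfLE hUV).op ≫ γX) a
    exact (TopCat.Presheaf.germ_res_apply X.left.presheaf (homOfLE hUV) _ hηU (f.left.app V a)).symm
  letI : Algebra k Γ(Y.left, V) := σY.hom.toAlgebra
  letI : Algebra k Γ(X.left, U) := σX.hom.toAlgebra
  letI : Algebra Γ(Y.left, V) Γ(X.left, U) := τ.hom.toAlgebra
  haveI : IsScalarTower k Γ(Y.left, V) Γ(X.left, U) :=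
    IsScalarTower.of_algebraMap_eq fun c => (ConcreteCategory.congr_hom hστ c).symm
  haveI : Algebra.FiniteType k Γ(X.left, U) := by
    show σX.hom.FiniteType
    exact RingHom.FiniteType.comp (X.hom.finiteType_appLE (isAffineOpen_top _) hU le_top)
      (RingHom.FiniteType.of_surjective _ (Scheme.ΓSpecIso (CommRingCat.of k)).commRingCatIsoToRingEquiv.symm.surjective)
  letI : Algebra Γ(Y.left, V) Y.left.functionField := γY.hom.toAlgebra
  letI : Algebra Y.left.functionField X.left.functionField := ω.hom.toAlgebra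
  letI : Algebra Γ(X.left, U) X.left.functionField := γX.hom.toAlgebra
  letI : Algebra Γ(Y.left, V) X.left.functionField := (γX.hom.comp τ.hom).toAlgebra
  haveI : IsScalarTower Γ(Y.left, V) Y.left.functionField X.left.functionField :=
    IsScalarTower.of_algebraMap_eq fun a => (hsq a).symm
  haveI : IsScalarTower Γ(Y.left, V) Γ(X.left, U) X.left.functionField :=
    IsScalarTower.of_algebraMap_eq fun _ => rfl
  haveI : CharZero Y.left.functionField := charZero_of_injective_ringHom (γY.hom.comp σY.hom).injective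
  have hφs : ∀ φ₁ φ₂ : Γ(X.left, U) →ₐ[k] k,
      (∀ a, φ₁ (algebraMap Γ(Y.left, V) Γ(X.left, U) a) = φ₂ (algebraMap Γ(Y.left, V) Γ(X.left, U) a)) →
      φ₁ (X.left.presheaf.map (homOfLE le_top).op s : Γ(X.left, U)) =
        φ₂ (X.left.presheaf.map (homOfLE le_top).op s : Γ(X.left, U)) := by
    intro φ₁ φ₂ hφ
    let pt : (Γ(X.left, U) →ₐ[k] k) → (Spec (CommRingCat.of k) ⟶ X.left) := fun φ =>
      Spec.map (CommRingCat.ofHom φ.toRingHom) ≫ hU.fromSpec
    have hhom : ∀ φ, pt φ ≫ X.hom = 𝟙 _ := fun φ => by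
      have h1 : hU.fromSpec ≫ X.hom = Spec.map σX := by
        rw [← IsAffineOpen.SpecMap_appLE_fromSpec X.hom (isAffineOpen_top _) hU le_top, IsAffineOpen.fromSpec_top,
          Scheme.isoSpec_Spec_inv, ← Spec.map_comp]
      show (Spec.map _ ≫ hU.fromSpec) ≫ X.hom = _
      rw [Category.assoc, h1, ← Spec.map_comp, ← Spec.map_id]
      congr 1
      ext c
      exact φ.commutes c
    have hcomp : pt φ₁ ≫ f.left = pt φ₂ ≫ f.left := by
      show (Spec.map _ ≫ hU.fromSpec) ≫ f.left = (Spec.map _ ≫ hU.fromSpec) ≫ f.left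
      rw [Category.assoc, Category.assoc, ← IsAffineOpen.SpecMap_appLE_fromSpec f.left hV hU hUV,
        ← Category.assoc, ← Category.assoc, ← Spec.map_comp, ← Spec.map_comp]
      congr 2
      ext a
      exact hφ a
    have happ : ∀ φ, (pt φ).appTop =
        (X.left.presheaf.map (homOfLE le_top).op ≫ CommRingCat.ofHom φ.toRingHom) ≫
          (Scheme.ΓSpecIso (CommRingCat.of k)).inv := fun φ => by
      show (Spec.map _ ≫ hU.fromSpec).appTop = _
      rw [Scheme.Hom.comp_appTop, Category.assoc, Scheme.ΓSpecIso_inv_naturality, ← Category.assoc]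
      congr 1
      rw [Scheme.Hom.appTop, hU.fromSpec_app_of_le ⊤ le_top]
      refine congrArg (X.left.presheaf.map (homOfLE le_top).op ≫ ·) ?_
      refine Eq.trans (congrArg ((Scheme.ΓSpecIso Γ(X.left, U)).inv ≫ ·) ((Spec Γ(X.left, U)).presheaf.map_id _)) ?_
      exact Category.comp_id _
    have h2 := hs (pt φ₁) (pt φ₂) (hhom φ₁) (hhom φ₂) hcomp
    rw [happ, happ] at h2
    exact (Scheme.ΓSpecIso (CommRingCat.of k)).commRingCatIsoToRingEquiv.symm.injective h2
  obtain ⟨c, hc⟩ := exists_algebraMap_eq (k := k) (A := Γ(Y.left, V)) (F := Y.left.functionField)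
    (K := X.left.functionField) (X.left.presheaf.map (homOfLE le_top).op s : Γ(X.left, U)) hφs
  exact ⟨c, hc.trans (TopCat.Presheaf.germ_res_apply X.left.presheaf (homOfLE le_top) _ hηU s)⟩

end GrothLib.RatDesc5
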